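import Cfsg.Agent.Helper77.Br43.PGDefs

/-!
# Theorem PG of S0996 (helper77): package W3 = (PG2d), (PG2e), plus private helper lemmas
(`aux_*`, re-proved here so that W3-W5 are self-contained).
-/

set_option autoImplicit false
set_option linter.unusedSectionVars false

namespace Cfsg.Agent.Helper59.BrPG

open scoped Pointwise
open Cfsg.Agent.Helper77.BrPG

universe u

variable {G : Type u} [Group G] [Finite G] {p : ℕ} [Fact p.Prime]

/-- every element of `P` is a power of `x ∈ P \ 1` -/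
theorem aux_mem_zpowers (P : Sylow p G) (hP : Nat.card P = p) (x : G)
    (hx : x ∈ (P : Subgroup G)) (hx1 : x ≠ 1) (y : G) (hy : y ∈ (P : Subgroup G)) :
    y ∈ Subgroup.zpowers x := by
  have h1 : (⟨x, hx⟩ : (P : Subgroup G)) ≠ 1 := fun h => hx1 (congrArg Subtype.val h)
  have h2 := zpowers_eq_top_of_prime_card (G := (P : Subgroup G)) hP h1
  have h3 : (⟨y, hy⟩ : (P : Subgroup G)) ∈ Subgroup.zpowers (⟨x, hx⟩ : (P : Subgroup G)) := by
    rw [h2]; exact Subgroup.mem_top _
  obtain ⟨k, hk⟩ := Subgroup.mem_zpowers_iff.1 h3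
  refine Subgroup.mem_zpowers_iff.2 ⟨k, ?_⟩
  have := congrArg Subtype.val hk
  simpa using this

/-- (PG2a), private copy -/
theorem aux_centralizer_singleton (P : Sylow p G) (hP : Nat.card P = p)
    (hcen : Subgroup.centralizer ((P : Subgroup G) : Set G) = (P : Subgroup G)) (x : G)
    (hx : x ∈ (P : Subgroup G)) (hx1 : x ≠ 1) :
    Subgroup.centralizer ({x} : Set G) = (P : Subgroup G) := by
  apply le_antisymm
  · intro y hy
    rw [← hcen]
    rw [Subgroup.mem_centralizer_iff]
    intro z hz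
    have hzx := aux_mem_zpowers P hP x hx hx1 z hz
    obtain ⟨k, rfl⟩ := Subgroup.mem_zpowers_iff.1 hzx
    have hc : Commute x y := by
      have := Subgroup.mem_centralizer_singleton_iff.1 hy
      exact this.symm
    exact (hc.zpow_left k).eq
  · intro y hy
    rw [Subgroup.mem_centralizer_singleton_iff]
    have hy' : y ∈ Subgroup.centralizer ((P : Subgroup G) : Set G) := by rw [hcen]; exact hy
    exact (Subgroup.mem_centralizer_iff.1 hy' x hx).symm

theorem aux_mem_Nz_iff (w : G) (Q : Sylow p G) : w ∈ Nz Q ↔ w • Q = Q :=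
  Sylow.smul_eq_iff_mem_normalizer.symm

theorem aux_mem_Nz_smul_iff (g w : G) (Q : Sylow p G) :
    w ∈ Nz (g • Q) ↔ g⁻¹ * w * g ∈ Nz Q := by
  rw [aux_mem_Nz_iff, aux_mem_Nz_iff, mul_smul, mul_smul, inv_smul_eq_iff]

/-- (PG2b), private copy -/
theorem aux_eq_of_mem_Nz (P : Sylow p G) (hP : Nat.card P = p) (x : G)
    (hx : x ∈ (P : Subgroup G)) (hx1 : x ≠ 1) (Q : Sylow p G) (hxQ : x ∈ Nz Q) : Q = P := by
  -- `zpowers x = P` is a `p`-group normalizing `Q`, so it lies in `Q`
  have hPle : (P : Subgroup G) ≤ Nz Q := by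
    intro y hy
    obtain ⟨k, rfl⟩ := Subgroup.mem_zpowers_iff.1 (aux_mem_zpowers P hP x hx hx1 y hy)
    exact Subgroup.zpow_mem _ hxQ k
  have h1 := IsPGroup.inf_normalizer_sylow P.2 Q
  have hPQ : (P : Subgroup G) ≤ (Q : Subgroup G) := by
    have h2 : (P : Subgroup G) ⊓ Nz Q = (P : Subgroup G) := inf_eq_left.2 hPle
    have h3 : (P : Subgroup G) ⊓ (Q : Subgroup G) = (P : Subgroup G) := by
      rw [← h1]; exact h2
    exact inf_eq_left.1 h3
  have hcard : Nat.card (P : Subgroup G) = Nat.card (Q : Subgroup G) := by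
    rw [Sylow.card_eq_multiplicity P, Sylow.card_eq_multiplicity Q]
  have := Subgroup.eq_of_le_of_card_ge hPQ (le_of_eq hcard.symm)
  exact (Sylow.ext this).symm

/-- (PG2c), private copy -/
theorem aux_Ez_inf_eq_bot (P : Sylow p G) (hP : Nat.card P = p) (Q : Sylow p G) (hQ : Q ≠ P) :
    Ez P Q ⊓ (P : Subgroup G) = ⊥ := by
  rw [eq_bot_iff]
  intro y hy
  rw [Subgroup.mem_bot]
  by_contra hy1
  exact hQ (aux_eq_of_mem_Nz P hP y hy.2 hy1 Q hy.1.2)

/-- the conjugation homomorphism restricted to `H ≤ N_G(P)` with `H ∩ P = 1` is injective -/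
theorem aux_injective (P : Sylow p G)
    (hcen : Subgroup.centralizer ((P : Subgroup G) : Set G) = (P : Subgroup G)) (H : Subgroup G)
    (hH : H ≤ Nz P) (hHP : H ⊓ (P : Subgroup G) = ⊥) :
    Function.Injective (((P : Subgroup G).normalizerMonoidHom).comp (Subgroup.inclusion hH)) := by
  rw [injective_iff_map_eq_one]
  intro a ha
  have h1 : Subgroup.inclusion hH a ∈ ((P : Subgroup G).normalizerMonoidHom).ker := ha
  rw [Subgroup.normalizerMonoidHom_ker, Subgroup.mem_subgroupOf, hcen] at h1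
  have h2 : (a : G) ∈ H ⊓ (P : Subgroup G) := ⟨a.2, h1⟩
  rw [hHP, Subgroup.mem_bot] at h2
  exact Subtype.ext h2

theorem aux_isCyclic_P (P : Sylow p G) (hP : Nat.card P = p) : IsCyclic (P : Subgroup G) :=
  isCyclic_of_prime_card hP

theorem aux_isCyclic_mulAut (P : Sylow p G) (hP : Nat.card P = p) :
    IsCyclic (MulAut (P : Subgroup G)) := by
  haveI := aux_isCyclic_P P hP
  haveI : Fact (Nat.card (P : Subgroup G)).Prime := ⟨by rw [hP]; exact Fact.out⟩
  exact isCyclic_of_injective (IsCyclic.mulAutMulEquiv (P : Subgroup G)).toMonoidHom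
    (IsCyclic.mulAutMulEquiv (P : Subgroup G)).injective

theorem aux_card_mulAut (P : Sylow p G) (hP : Nat.card P = p) :
    Nat.card (MulAut (P : Subgroup G)) = p - 1 := by
  haveI := aux_isCyclic_P P hP
  rw [IsCyclic.card_mulAut, hP, Nat.totient_prime Fact.out]

/-- (PG2d) a subgroup `H ≤ N` with `H ∩ P = 1` is cyclic of order dividing `e`
(it embeds in `N / P = N / C_N(P) ↪ Aut(P) ≅ (ℤ/p)ˣ`). -/
theorem isCyclic_of_inf_eq_bot (P : Sylow p G) (hP : Nat.card P = p)
    (hcen : Subgroup.centralizer ((P : Subgroup G) : Set G) = (P : Subgroup G)) (e : ℕ)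
    (hN : Nat.card (Nz P) = p * e) (H : Subgroup G)
    (hH : H ≤ Nz P) (hHP : H ⊓ (P : Subgroup G) = ⊥) : IsCyclic H ∧ Nat.card H ∣ e := by
  have hinj := aux_injective P hcen H hH hHP
  haveI := aux_isCyclic_mulAut P hP
  refine ⟨isCyclic_of_injective _ hinj, ?_⟩
  have h1 : Nat.card H ∣ p - 1 := by
    rw [← aux_card_mulAut P hP]
    exact Subgroup.card_dvd_of_injective _ hinj
  have hp : p.Prime := Fact.out
  have hcop : (Nat.card H).Coprime p := by
    have h2 : (p - 1).Coprime p := by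
      rw [Nat.coprime_comm, Nat.Prime.coprime_iff_not_dvd hp]
      intro hdvd
      have := Nat.le_of_dvd (by have := hp.two_le; omega) hdvd
      have := hp.two_le
      omega
    exact Nat.Coprime.coprime_dvd_left h1 h2
  have h3 : Nat.card H ∣ p * e := by
    rw [← hN]
    exact Subgroup.card_dvd_of_le hH
  exact hcop.dvd_of_dvd_mul_left h3

/-- (PG2e) `e ∣ p - 1` -/
theorem e_dvd_pred (P : Sylow p G) (hP : Nat.card P = p)
    (hcen : Subgroup.centralizer ((P : Subgroup G) : Set G) = (P : Subgroup G)) (e : ℕ)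
    (hN : Nat.card (Nz P) = p * e) : e ∣ p - 1 := by
  have hp : p.Prime := Fact.out
  set φ := (P : Subgroup G).normalizerMonoidHom with hφ
  have hker : Nat.card φ.ker = p := by
    rw [hφ, Subgroup.normalizerMonoidHom_ker, hcen]
    rw [Nat.card_congr (Subgroup.subgroupOfEquivOfLe (Subgroup.le_normalizer)).toEquiv]
    exact hP
  have h1 : Nat.card φ.ker * φ.ker.index = Nat.card (Nz P) := Subgroup.card_mul_index _
  rw [hker, hN, Subgroup.index_ker] at h1
  have h2 : Nat.card φ.range = e := Nat.eq_of_mul_eq_mul_left hp.pos h1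
  rw [← h2, ← aux_card_mulAut P hP]
  exact Subgroup.card_subgroup_dvd_card _

end Cfsg.Agent.Helper59.BrPG
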