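import Cfsg.Agent.Helper59.BrPG.W3

/-!
# Theorem PG of S0996 (helper77): package W4 = (PG3a), (PG3b), (PG3c).
-/

set_option autoImplicit false
set_option linter.unusedSectionVars false

namespace Cfsg.Agent.Helper59.BrPG

open scoped Pointwise
open Cfsg.Agent.Helper77.BrPG

universe u

variable {G : Type u} [Group G] [Finite G] {p : ℕ} [Fact p.Prime]

/-- (PG3a) `C_N(w) = H` for a complement `H` (order `e`, `H ∩ P = 1`) and `w ∈ H \ 1` -/
theorem IsBr.mem_of_commute {P : Sylow p G} {e n : ℕ} (h : IsBr P e n) (H : Subgroup G)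
    (hH : H ≤ Nz P) (hHP : H ⊓ (P : Subgroup G) = ⊥) (hcard : Nat.card H = e) (w : G) (hw : w ∈ H)
    (hw1 : w ≠ 1) (y : G) (hy : y ∈ Nz P) (hc : y * w = w * y) : y ∈ H := by
  -- `K = C_N(w)`
  set K : Subgroup G := Subgroup.centralizer ({w} : Set G) ⊓ Nz P with hK
  have hKN : K ≤ Nz P := inf_le_right
  -- `H ≤ K` since `H` is abelian
  obtain ⟨hHcyc, -⟩ := isCyclic_of_inf_eq_bot P h.cardP h.cen e h.cardN H hH hHP
  have hHK : H ≤ K := by
    intro z hz
    refine ⟨?_, hH hz⟩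
    show z ∈ Subgroup.centralizer ({w} : Set G)
    rw [Subgroup.mem_centralizer_singleton_iff]
    haveI := hHcyc
    have hcomm : (⟨z, hz⟩ : H) * ⟨w, hw⟩ = ⟨w, hw⟩ * ⟨z, hz⟩ :=
      (isMulCommutative_iff.1 IsCyclic.isMulCommutative _ _)
    have := congrArg Subtype.val hcomm
    simpa using this
  -- `K ∩ P = 1`
  have hKP : K ⊓ (P : Subgroup G) = ⊥ := by
    rw [eq_bot_iff]
    intro x hx
    rw [Subgroup.mem_bot]
    by_contra hx1
    have hxw : x * w = w * x := Subgroup.mem_centralizer_singleton_iff.1 hx.1.1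
    have hwx : w ∈ Subgroup.centralizer ({x} : Set G) := by
      rw [Subgroup.mem_centralizer_singleton_iff]; exact hxw.symm
    rw [aux_centralizer_singleton P h.cardP h.cen x hx.2 hx1] at hwx
    have : w ∈ H ⊓ (P : Subgroup G) := ⟨hw, hwx⟩
    rw [hHP, Subgroup.mem_bot] at this
    exact hw1 this
  obtain ⟨-, hKe⟩ := isCyclic_of_inf_eq_bot P h.cardP h.cen e h.cardN K hKN hKP
  have hepos : 0 < e := by have := h.he; omega
  have hle : Nat.card K ≤ Nat.card H := by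
    rw [hcard]; exact Nat.le_of_dvd hepos hKe
  have hEq : H = K := Subgroup.eq_of_le_of_card_ge hHK hle
  rw [hEq]
  refine ⟨?_, hy⟩
  show y ∈ Subgroup.centralizer ({w} : Set G)
  rw [Subgroup.mem_centralizer_singleton_iff]
  exact hc

/-- (PG3b) two complements with a common nontrivial element are equal -/
theorem IsBr.eq_of_mem_of_mem {P : Sylow p G} {e n : ℕ} (h : IsBr P e n) (H H' : Subgroup G)
    (hH : H ≤ Nz P) (hHP : H ⊓ (P : Subgroup G) = ⊥) (hcard : Nat.card H = e)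
    (hH' : H' ≤ Nz P) (hHP' : H' ⊓ (P : Subgroup G) = ⊥) (hcard' : Nat.card H' = e)
    (w : G) (hw1 : w ≠ 1) (hw : w ∈ H) (hw' : w ∈ H') : H = H' := by
  obtain ⟨hcyc', -⟩ := isCyclic_of_inf_eq_bot P h.cardP h.cen e h.cardN H' hH' hHP'
  have hle : H' ≤ H := by
    intro y hy
    refine IsBr.mem_of_commute h H hH hHP hcard w hw hw1 y (hH' hy) ?_
    haveI := hcyc'
    have hcomm : (⟨y, hy⟩ : H') * ⟨w, hw'⟩ = ⟨w, hw'⟩ * ⟨y, hy⟩ :=
      (isMulCommutative_iff.1 IsCyclic.isMulCommutative _ _)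
    have := congrArg Subtype.val hcomm
    simpa using this
  exact (Subgroup.eq_of_le_of_card_ge hle (by rw [hcard, hcard'])).symm

/-- (PG3c) `Fix(w) = Fix(E)`: if `w ∈ E \ 1`, `E = N(P) ∩ N(Q)`, normalizes `Q'` then so does `E` -/
theorem IsBr.Ez_le_of_mem {P : Sylow p G} {e n : ℕ} (h : IsBr P e n) (Q : Sylow p G) (hQ : Q ≠ P)
    (w : G) (hw : w ∈ Ez P Q) (hw1 : w ≠ 1) (Q' : Sylow p G) (hwQ' : w ∈ Nz Q') :
    Ez P Q ≤ Nz Q' := by
  by_cases hQ' : Q' = P
  · rw [hQ']; exact inf_le_left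
  have hE : Ez P Q = Ez P Q' :=
    IsBr.eq_of_mem_of_mem h (Ez P Q) (Ez P Q') inf_le_left (aux_Ez_inf_eq_bot P h.cardP Q hQ)
      (h.two Q hQ) inf_le_left (aux_Ez_inf_eq_bot P h.cardP Q' hQ') (h.two Q' hQ') w hw1 hw
      ⟨hw.1, hwQ'⟩
  rw [hE]
  exact inf_le_right

end Cfsg.Agent.Helper59.BrPG
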