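import Cfsg.Agent.Helper59.BrPG.W4

/-!
# Theorem PG of S0996 (helper77): package W5 = (PG3d), the TI property.
-/

set_option autoImplicit false
set_option linter.unusedSectionVars false

namespace Cfsg.Agent.Helper59.BrPG

open scoped Pointwise
open Cfsg.Agent.Helper77.BrPG

universe u

variable {G : Type u} [Group G] [Finite G] {p : ℕ} [Fact p.Prime]

/-- (PG3d) TI: `w ∈ N \ P` fixes at most one point in each `P`-orbit on `Ω \ {P}` -/
theorem IsBr.not_mem_Nz_smul {P : Sylow p G} {e n : ℕ} (h : IsBr P e n) (Q : Sylow p G)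
    (hQ : Q ≠ P) (x : G) (hx : x ∈ (P : Subgroup G)) (hx1 : x ≠ 1) (w : G) (hwP : w ∈ Nz P)
    (hwP' : w ∉ (P : Subgroup G)) (hwQ : w ∈ Nz Q) : w ∉ Nz (x • Q) := by
  intro hcon
  rw [aux_mem_Nz_smul_iff] at hcon
  have hxN : x ∈ Nz P := Subgroup.le_normalizer hx
  -- `w' = x⁻¹ w x ∈ E''`
  have hw'P : x⁻¹ * w * x ∈ Nz P :=
    Subgroup.mul_mem _ (Subgroup.mul_mem _ (Subgroup.inv_mem _ hxN) hwP) hxN
  -- `w⁻¹ w' ∈ E'' ∩ P`
  have h1 : w⁻¹ * (x⁻¹ * w * x) ∈ Ez P Q :=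
    Subgroup.mul_mem _ (Subgroup.inv_mem _ ⟨hwP, hwQ⟩) ⟨hw'P, hcon⟩
  have h2 : w⁻¹ * (x⁻¹ * w * x) ∈ (P : Subgroup G) := by
    have h3 : w⁻¹ * x⁻¹ * w⁻¹⁻¹ ∈ (P : Subgroup G) :=
      ((Subgroup.mem_normalizer_iff.1 (Subgroup.inv_mem _ hwP)) x⁻¹).1 (Subgroup.inv_mem _ hx)
    have h4 : w⁻¹ * (x⁻¹ * w * x) = (w⁻¹ * x⁻¹ * w⁻¹⁻¹) * x := by
      simp [mul_assoc]
    rw [h4]
    exact Subgroup.mul_mem _ h3 hx
  have h5 : w⁻¹ * (x⁻¹ * w * x) ∈ Ez P Q ⊓ (P : Subgroup G) := ⟨h1, h2⟩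
  rw [aux_Ez_inf_eq_bot P h.cardP Q hQ, Subgroup.mem_bot] at h5
  -- so `w` commutes with `x`
  have h6 : x * w = w * x := by
    have h7 : x⁻¹ * w * x = w := by
      have := congrArg (fun t => w * t) h5
      simpa [mul_assoc] using this
    calc x * w = x * (x⁻¹ * w * x) := by rw [h7]
      _ = w * x := by simp [mul_assoc]
  have h8 : w ∈ Subgroup.centralizer ({x} : Set G) := by
    rw [Subgroup.mem_centralizer_singleton_iff]; exact h6.symm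
  rw [aux_centralizer_singleton P h.cardP h.cen x hx hx1] at h8
  exact hwP' h8

end Cfsg.Agent.Helper59.BrPG
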